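import Mathlib
import Groth.Agent.Lib.Depth.CM
import Groth.Agent.Lib.RegLoc.Basic
import Groth.Agent.Lib.RegLoc.GlobalDim
import Groth.Agent.Lib.VarDim.Alg

/-!
A finite extension of regular local rings is free, and tensor factors of a free finite algebra over
a local domain are free.
-/

set_option autoImplicit false

open IsLocalRing RingTheory.Sequence TensorProduct

universe u v

namespace Groth.Agent.TensorFreeH28

theorem free_of_isWeaklyRegular : ∀ (k : ℕ) (R : Type u) [CommRing R] [IsNoetherianRing R]
    [IsLocalRing R] (rs : List R), rs.length = k → Ideal.ofList rs = maximalIdeal R →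
    ∀ (M : Type v) [AddCommGroup M] [Module R M] [Module.Finite R M],
      IsWeaklyRegular M rs → Module.Free R M := by
  intro k
  induction k with
  | zero =>
    intro R _ _ _ rs hlen hm M _ _ _ _
    obtain rfl := List.length_eq_zero_iff.1 hlen
    rw [Ideal.ofList_nil] at hm
    let := (IsLocalRing.isField_iff_maximalIdeal_eq.2 hm.symm).toField
    exact Module.Free.of_divisionRing R M
  | succ k ih =>
    intro R _ _ _ rs hlen hm M _ _ _ hreg
    obtain ⟨r, rs, rfl⟩ := List.exists_cons_of_length_eq_add_one hlen
    have hr : r ∈ maximalIdeal R := hm ▸ Ideal.subset_span (by simp)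
    obtain ⟨h1, h2⟩ := (isWeaklyRegular_cons_iff' M r rs).1 hreg
    have hne : Ideal.span {r} ≠ ⊤ := ne_top_of_le_ne_top (maximalIdeal.isMaximal R).ne_top
      ((Ideal.span_singleton_le_iff_mem _).2 hr)
    have : Nontrivial (R ⧸ Ideal.span {r}) := Ideal.Quotient.nontrivial_iff.2 hne
    have : IsLocalRing (R ⧸ Ideal.span {r}) :=
      IsLocalRing.of_surjective' (Ideal.Quotient.mk _) Ideal.Quotient.mk_surjective
    have hmap : Ideal.ofList (rs.map (Ideal.Quotient.mk (Ideal.span {r}))) =
        maximalIdeal (R ⧸ Ideal.span {r}) := by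
      have h3 := IsLocalRing.eq_maximalIdeal
        (Ideal.IsMaximal.map_of_surjective_of_ker_le (f := Ideal.Quotient.mk (Ideal.span {r}))
          (m := maximalIdeal R) Ideal.Quotient.mk_surjective
          (by rw [Ideal.mk_ker]; exact (Ideal.span_singleton_le_iff_mem _).2 hr))
      rw [← h3, ← hm, Ideal.ofList_cons, Ideal.map_sup, Ideal.map_quotient_self, bot_sup_eq,
        Ideal.map_ofList]
    have := Module.Finite.of_restrictScalars_finite R (R ⧸ Ideal.span {r}) (QuotSMulTop r M)
    have hfree := ih (R ⧸ Ideal.span {r}) _ (by simpa using hlen) hmap (QuotSMulTop r M) h2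
    have := Module.finitePresentation_of_finite R M
    exact (Module.free_quotSMulTop_iff_free R M
      (by rwa [IsLocalRing.jacobson_eq_maximalIdeal ⊥ bot_ne_top]) h1).1 hfree

/-- A regular local ring finite over a regular local ring injecting into it is free over it. -/
theorem free_of_finite_regular (R : Type u) (A : Type v) [CommRing R] [IsRegularLocalRing R]
    [CommRing A] [IsRegularLocalRing A] [Algebra R A] [Module.Finite R A]
    (hinj : Function.Injective (algebraMap R A)) : Module.Free R A := by
  obtain ⟨x, hx⟩ := RegLoc.exists_fin_generators R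
  set xs := List.ofFn x with hxs
  set ys := xs.map (algebraMap R A) with hys
  have hxm : Ideal.ofList xs = maximalIdeal R := by
    refine Eq.trans ?_ hx
    rw [Ideal.ofList]
    congr 1
    ext; simp [hxs, List.mem_ofFn]
  have hlen : ys.length = (maximalIdeal R).spanFinrank := by simp [hys, hxs]
  have hprime : ∀ P : Ideal A, P.IsPrime → Ideal.ofList ys ≤ P → P = maximalIdeal A := by
    intro P hP hle
    rw [hys, ← Ideal.map_ofList, Ideal.map_le_iff_le_comap, hxm] at hle
    have h := le_antisymm hle (le_maximalIdeal (hP.comap (algebraMap R A)).ne_top)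
    have : (P.comap (algebraMap R A)).IsMaximal := h ▸ maximalIdeal.isMaximal R
    exact IsLocalRing.eq_maximalIdeal (Ideal.isMaximal_of_isIntegral_of_isMaximal_comap P this)
  have hys_le : Ideal.ofList ys ≤ maximalIdeal A := by
    rw [hys, ← Ideal.map_ofList, Ideal.map_le_iff_le_comap, hxm]
    intro r hr
    have h1 : IsLocalHom (algebraMap R A) :=
      RingHom.IsIntegral.isLocalHom (fun a => (Algebra.IsIntegral.of_finite R A).isIntegral a) hinj
    simpa using hr
  have hmem : ∀ y ∈ ys, y ∈ maximalIdeal A := fun y hy => hys_le (Ideal.subset_span hy)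
  have hcm := (DepthLib.isCohenMacaulayLocalRing_of_isRegularLocalRing (R := A)).supportDim_eq_depth
  have hne : Ideal.ofList ys ≠ ⊤ := ne_top_of_le_ne_top (maximalIdeal.isMaximal A).ne_top hys_le
  have h1 := DepthLib.supportDim_eq_quotient_add_idealDepth (M := A) hcm (I := Ideal.ofList ys) hne
  rw [Ideal.smul_eq_mul, Ideal.mul_top, Module.supportDim_quotient_eq_ringKrullDim,
    Module.supportDim_self_eq_ringKrullDim] at h1
  have h0 : ringKrullDim (A ⧸ Ideal.ofList ys) = 0 := by
    have : Nontrivial (A ⧸ Ideal.ofList ys) := Ideal.Quotient.nontrivial_iff.2 hne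
    refine le_antisymm ?_ ringKrullDim_nonneg_of_nontrivial
    have : Ring.KrullDimLE 0 (A ⧸ Ideal.ofList ys) := Ring.krullDimLE_zero_iff.2 fun P hP => by
      have h := hprime _ (hP.comap (Ideal.Quotient.mk _))
        (fun a ha => by simp [Ideal.mem_comap, Ideal.Quotient.eq_zero_iff_mem.2 ha])
      rw [← Ideal.map_comap_of_surjective _ Ideal.Quotient.mk_surjective P, h]
      exact Ideal.IsMaximal.map_of_surjective_of_ker_le Ideal.Quotient.mk_surjective
        (by rw [Ideal.mk_ker]; exact hys_le)
    exact Ring.krullDimLE_iff.1 this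
  rw [h0, zero_add, VarDim.ringKrullDim_eq_of_isIntegral hinj,
    ← IsRegularLocalRing.spanFinrank_maximalIdeal] at h1
  have hreg : IsWeaklyRegular A ys :=
    DepthLib.isWeaklyRegular_of_length_le_idealDepth ys hmem
      (le_of_eq (by rw [hlen]; exact_mod_cast h1))
  exact free_of_isWeaklyRegular _ R xs rfl hxm A
    ((isWeaklyRegular_map_algebraMap_iff A A xs).1 hreg)

/-- Minimal generators together with their dual functionals to the residue field. -/
theorem exists_generators {R : Type u} [CommRing R] [IsLocalRing R] (M : Type v) [AddCommGroup M]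
    [Module R M] [Module.Finite R M] :
    ∃ (g : ℕ) (b : Fin g → M), Submodule.span R (Set.range b) = ⊤ ∧
      ∃ l : Fin g → (M →ₗ[R] ResidueField R), ∀ s t, l s (b t) = if t = s then 1 else 0 := by
  classical
  let bk := Module.finBasis (ResidueField R) (ResidueField R ⊗[R] M)
  have hsurj : Function.Surjective (TensorProduct.mk R (ResidueField R) M 1) := fun z => by
    induction z with
    | zero => exact ⟨0, map_zero _⟩
    | tmul a m =>
      obtain ⟨r, rfl⟩ := Ideal.Quotient.mk_surjective a
      refine ⟨r • m, ?_⟩
      rw [map_smul, TensorProduct.mk_apply, TensorProduct.smul_tmul', Algebra.smul_def, mul_one]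
      rfl
    | add u v hu hv =>
      obtain ⟨m, rfl⟩ := hu
      obtain ⟨m', rfl⟩ := hv
      exact ⟨m + m', map_add _ _ _⟩
  choose b hb using fun t => hsurj (bk t)
  refine ⟨_, b, IsLocalRing.span_eq_top_of_tmul_eq_basis b bk hb,
    fun s => ((bk.coord s).restrictScalars R).comp (TensorProduct.mk R (ResidueField R) M 1),
    fun s t => ?_⟩
  simp only [LinearMap.comp_apply, hb, LinearMap.restrictScalars_apply, Module.Basis.coord_apply,
    Module.Basis.repr_self, Finsupp.single_apply]

variable {R : Type u} [CommRing R] {A : Type v} [CommRing A] [Algebra R A] {n : ℕ}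

theorem prod_mem_span {κ : Fin n → Type*} [∀ i, Fintype (κ i)] (v : ∀ i, κ i → A) (c : Fin n → R)
    (x : Fin n → A) (hx : ∀ i, c i • x i ∈ Submodule.span R (Set.range (v i))) :
    (∏ i, c i) • ∏ i, x i ∈ Submodule.span R (Set.range fun j : ∀ i, κ i => ∏ i, v i (j i)) := by
  classical
  choose a ha using fun i => (Submodule.mem_span_range_iff_exists_fun R).1 (hx i)
  have h1 : (∏ i, c i) • ∏ i, x i = ∏ i, c i • x i := by
    simp only [Algebra.smul_def, map_prod, Finset.prod_mul_distrib]
  rw [h1, ← Finset.prod_congr rfl (fun i _ => ha i), Fintype.prod_sum]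
  refine Submodule.sum_mem _ fun j _ => ?_
  have h2 : ∏ i, a i (j i) • v i (j i) = (∏ i, a i (j i)) • ∏ i, v i (j i) := by
    simp only [Algebra.smul_def, map_prod, Finset.prod_mul_distrib]
  rw [h2]
  exact Submodule.smul_mem _ _ (Submodule.subset_span ⟨j, rfl⟩)

theorem span_prod_eq_top (B : Fin n → Subalgebra R A) (hgen : ⨆ i, B i = ⊤) :
    Submodule.span R (Set.range fun x : ∀ i, B i => ∏ i, (x i : A)) = ⊤ := by
  classical
  rw [eq_top_iff]
  let P : (∀ i, B i) →* A :=
    { toFun := fun x => ∏ i, (x i : A)
      map_one' := by simp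
      map_mul' := fun x y => by simp [Finset.prod_mul_distrib] }
  have h : (⊤ : Subalgebra R A) ≤ Algebra.adjoin R (Set.range P) := hgen ▸ iSup_le fun i b hb =>
    Algebra.subset_adjoin ⟨Pi.mulSingle i ⟨b, hb⟩, by
      show ∏ k, ((Pi.mulSingle i (⟨b, hb⟩ : B i) : ∀ k, B k) k : A) = b
      rw [Finset.prod_eq_single i]
      · simp
      · intro k _ hk; simp [Pi.mulSingle_eq_of_ne hk]
      · simp⟩
  intro a _
  have h2 := h (show a ∈ (⊤ : Subalgebra R A) from trivial)
  rw [← Subalgebra.mem_toSubmodule, Algebra.adjoin_eq_span, ← MonoidHom.coe_mrange,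
    Submonoid.closure_eq] at h2
  exact h2

theorem isLocalRing_subalgebra [IsLocalRing A] [Module.Finite R A] (B : Subalgebra R A) :
    IsLocalRing B ∧ IsLocalHom (algebraMap B A) := by
  have : Module.Finite B A := Module.Finite.of_restrictScalars_finite R B A
  have hi : (algebraMap B A).IsIntegral := fun a => (Algebra.IsIntegral.of_finite B A).isIntegral a
  have hl : IsLocalHom (algebraMap B A) := hi.isLocalHom Subtype.val_injective
  exact ⟨(algebraMap B A).domain_isLocalRing, hl⟩

/-- Factors of a finite free algebra which is their tensor product are free, and the algebra is free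
over each factor. -/
theorem free_of_tensor [IsDomain R] [IsLocalRing R] [IsNoetherianRing R] [Nontrivial A]
    [Module.Finite R A] [Module.Free R A] (B : Fin n → Subalgebra R A)
    (hgen : ⨆ i, B i = ⊤) (ψ : A →ₐ[R] ⨂[R] i, B i)
    (hψ : ∀ i (x : B i), ψ x = PiTensorProduct.singleAlgHom i x) (i₀ : Fin n) :
    Module.Free R (B i₀) ∧ Module.Free (B i₀) A := by
  classical
  have : ∀ i, Module.Finite R (B i) := fun i =>
    Module.Finite.of_injective (B i).val.toLinearMap Subtype.val_injective
  choose g b hb l hl using fun i => exists_generators (R := R) (B i)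
  let W : (∀ i, Fin (g i)) → A := fun j => ∏ i, (b i (j i) : A)
  have hψW : ∀ x : ∀ i, B i, ψ (∏ i, (x i : A)) = PiTensorProduct.tprod R x := by
    intro x
    rw [map_prod]
    simp only [hψ]
    conv_rhs => rw [← Finset.univ_prod_mulSingle x]
    rw [← PiTensorProduct.tprodMonoidHom_apply, map_prod]
    rfl
  -- dual functionals
  let F : (∀ i, Fin (g i)) → (A →ₗ[R] ResidueField R) := fun j =>
    (PiTensorProduct.lift ((MultilinearMap.mkPiAlgebra R (Fin n) (ResidueField R)).compLinearMap
      (fun i => l i (j i)))).comp ψ.toLinearMap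
  have hF : ∀ j j', F j (W j') = if j' = j then 1 else 0 := by
    intro j j'
    simp only [F, W, LinearMap.comp_apply, AlgHom.toLinearMap_apply, hψW,
      PiTensorProduct.lift.tprod, MultilinearMap.compLinearMap_apply,
      MultilinearMap.mkPiAlgebra_apply, hl, Fintype.prod_boole, funext_iff]
    congr 1
  have hcard : Fintype.card (∀ i, Fin (g i)) ≤ Module.finrank R A := by
    let e := Module.finBasis R A
    let Φ : A →ₗ[R] ((∀ i, Fin (g i)) → ResidueField R) := LinearMap.pi F
    have htop : Submodule.span (ResidueField R) (Set.range (Φ ∘ e)) = ⊤ := by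
      rw [eq_top_iff, ← (Pi.basisFun (ResidueField R) _).span_eq, Submodule.span_le]
      rintro _ ⟨j, rfl⟩
      have h1 : Φ (W j) = Pi.basisFun (ResidueField R) _ j := by
        funext j'
        simp [Φ, hF, Pi.single_apply, eq_comm]
      rw [← h1, ← e.sum_repr (W j), map_sum]
      refine Submodule.sum_mem _ fun t _ => ?_
      rw [map_smul, ← algebraMap_smul (ResidueField R) (e.repr (W j) t)]
      exact Submodule.smul_mem _ _ (Submodule.subset_span ⟨t, rfl⟩)
    have h2 := finrank_range_le_card (R := ResidueField R) (Φ ∘ e)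
    rw [Set.finrank, htop, finrank_top, Module.finrank_fintype_fun_eq_card, Fintype.card_fin] at h2
    exact h2
  -- each family is independent
  have hind : ∀ i, LinearIndependent R (b i) := by
    intro i₁
    by_contra hdep
    rw [Fintype.linearIndependent_iff] at hdep
    push Not at hdep
    obtain ⟨a, ha, t₀, hat⟩ := hdep
    let κ : Fin n → Type := fun i => {t : Fin (g i) // ∀ h : i = i₁, h ▸ t ≠ t₀}
    let v : ∀ i, κ i → A := fun i t => (b i t.1 : A)
    have hc : ∀ i (y : B i), (if i = i₁ then a t₀ else 1 : R) • (y : A) ∈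
        Submodule.span R (Set.range (v i)) := by
      intro i y
      have hy : y ∈ Submodule.span R (Set.range (b i)) := by rw [hb i]; trivial
      induction hy using Submodule.span_induction with
      | mem y hy =>
        obtain ⟨t, rfl⟩ := hy
        by_cases hi : i = i₁
        · subst hi
          rw [if_pos rfl]
          by_cases ht : t = t₀
          · subst ht
            have h1 : a t • (b i t : A) = -∑ s ∈ Finset.univ.erase t, a s • (b i s : A) := by
              rw [eq_neg_iff_add_eq_zero, Finset.add_sum_erase _ (fun s => a s • (b i s : A)) (Finset.mem_univ t)]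
              have := congrArg (Subtype.val) ha
              simpa using this
            rw [h1]
            refine neg_mem (Submodule.sum_mem _ fun s hs => Submodule.smul_mem _ _ ?_)
            exact Submodule.subset_span ⟨⟨s, fun h => by simpa using Finset.ne_of_mem_erase hs⟩, rfl⟩
          · exact Submodule.smul_mem _ _ (Submodule.subset_span ⟨⟨t, fun h => by simpa using ht⟩, rfl⟩)
        · rw [if_neg hi, one_smul]
          exact Submodule.subset_span ⟨⟨t, fun h => absurd h hi⟩, rfl⟩
      | zero => simp
      | add y z _ _ hy hz => rw [Subalgebra.coe_add, smul_add]; exact add_mem hy hz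
      | smul r y _ hy =>
        rw [Subalgebra.coe_smul, smul_comm]
        exact Submodule.smul_mem _ r hy
    set C : R := ∏ i, (if i = i₁ then a t₀ else 1) with hC
    have hC0 : C ≠ 0 := by
      rw [hC, Finset.prod_ne_zero_iff]
      intro i _
      split_ifs
      · exact hat
      · exact one_ne_zero
    let T : (∀ i, κ i) → A := fun j => ∏ i, v i (j i)
    have hall : ∀ z : A, C • z ∈ Submodule.span R (Set.range T) := by
      intro z
      have hz : z ∈ Submodule.span R (Set.range fun x : ∀ i, B i => ∏ i, (x i : A)) := by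
        rw [span_prod_eq_top B hgen]; trivial
      induction hz using Submodule.span_induction with
      | mem z hz =>
        obtain ⟨x, rfl⟩ := hz
        exact prod_mem_span v _ _ fun i => hc i (x i)
      | zero => simp
      | add y z _ _ hy hz => rw [smul_add]; exact add_mem hy hz
      | smul r y _ hy => rw [smul_comm]; exact Submodule.smul_mem _ r hy
    let e := Module.finBasis R A
    have hli : LinearIndependent R (fun t => C • e t) := by
      rw [Fintype.linearIndependent_iff]
      intro c hc t
      have := Fintype.linearIndependent_iff.1 e.linearIndependent (fun t => c t * C)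
        (by simpa [mul_smul] using hc) t
      exact (mul_eq_zero.1 this).resolve_right hC0
    have h3 := linearIndependent_le_span' _ hli (Set.range T)
      (by rintro _ ⟨t, rfl⟩; exact hall _)
    rw [Cardinal.mk_fin, Nat.cast_le] at h3
    have h4 : Fintype.card (Set.range T) ≤ Fintype.card (∀ i, κ i) := Fintype.card_range_le T
    have h5 : Fintype.card (∀ i, κ i) < Fintype.card (∀ i, Fin (g i)) := by
      refine Fintype.card_lt_of_injective_of_notMem (fun j i => (j i).1)
        (fun j j' h => funext fun i => Subtype.ext (congrFun h i))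
        (b := Function.update (fun i => (⟨0, ?_⟩ : Fin (g i))) i₁ t₀) ?_
      · by_contra h0
        have hg : g i = 0 := by omega
        have : IsEmpty (Fin (g i)) := hg ▸ Fin.isEmpty'
        have hbi := hb i
        rw [Set.range_eq_empty, Submodule.span_empty] at hbi
        have h1 : (1 : B i) ∈ (⊥ : Submodule R (B i)) := hbi ▸ trivial
        rw [Submodule.mem_bot] at h1
        exact one_ne_zero (by simpa using congrArg Subtype.val h1 : (1 : A) = 0)
      · rintro ⟨j, hj⟩
        exact (j i₁).2 rfl (by simpa using congrFun hj i₁)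
    omega
  have hspanW : Submodule.span R (Set.range W) = ⊤ := by
    rw [eq_top_iff, ← span_prod_eq_top B hgen, Submodule.span_le]
    rintro _ ⟨x, rfl⟩
    simpa using prod_mem_span (fun i t => (b i t : A)) (fun _ => (1 : R)) (fun i => (x i : A))
      fun i => by
        rw [one_smul, Submodule.mem_span_range_iff_exists_fun]
        obtain ⟨c, hc⟩ := (Submodule.mem_span_range_iff_exists_fun R).1
          (show x i ∈ Submodule.span R (Set.range (b i)) by rw [hb i]; trivial)
        exact ⟨c, by simpa using congrArg Subtype.val hc⟩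
  have hW : LinearIndependent R W :=
    linearIndependent_of_top_le_span_of_card_le_finrank hspanW.ge hcard
  refine ⟨Module.Free.of_basis (Module.Basis.mk (hind i₀) (hb i₀).ge), ?_⟩
  let ι := ∀ k : {k // k ≠ i₀}, Fin (g k)
  let m : ι → A := fun s => ∏ k : {k // k ≠ i₀}, (b k.1 (s k) : A)
  have hm : ∀ j : ∀ i, Fin (g i), (b i₀ (j i₀) : A) * m (fun k => j k.1) = W j := by
    intro j
    have := Fintype.prod_eq_mul_prod_compl i₀ (fun i => (b i (j i) : A))
    simp only [W, m]
    rw [this, Finset.prod_subtype (p := fun k => k ≠ i₀) ({i₀}ᶜ : Finset (Fin n)) (fun k => by simp)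
      (fun k => (b k (j k) : A))]
  let e := Equiv.piSplitAt i₀ (fun i => Fin (g i))
  have hspanm : Submodule.span (B i₀) (Set.range m) = ⊤ := by
    rw [eq_top_iff]
    rintro z -
    have hz : z ∈ Submodule.span R (Set.range W) := by rw [hspanW]; trivial
    induction hz using Submodule.span_induction with
    | mem z hz =>
      obtain ⟨j, rfl⟩ := hz
      rw [← hm]
      exact Submodule.smul_mem _ (b i₀ (j i₀)) (Submodule.subset_span ⟨_, rfl⟩)
    | zero => exact zero_mem _
    | add y z _ _ hy hz => exact add_mem hy hz
    | smul r y _ hy => exact Submodule.smul_of_tower_mem _ r hy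
  refine Module.Free.of_basis (Module.Basis.mk (v := m) ?_ hspanm.ge)
  rw [Fintype.linearIndependent_iff]
  intro x hx s
  choose c hc using fun s => (Submodule.mem_span_range_iff_exists_fun R).1
    (show x s ∈ Submodule.span R (Set.range (b i₀)) by rw [hb i₀]; trivial)
  have h1 : ∑ j, c (e j).2 (e j).1 • W j = 0 := by
    rw [← hx, ← Equiv.sum_comp e.symm, Fintype.sum_prod_type_right]
    refine Finset.sum_congr rfl fun s _ => ?_
    conv_rhs => rw [Subalgebra.smul_def, ← hc s]
    simp only [Equiv.apply_symm_apply, smul_eq_mul, AddSubmonoidClass.coe_finsetSum,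
      Subalgebra.coe_smul, Finset.sum_mul]
    refine Finset.sum_congr rfl fun t _ => ?_
    rw [← hm, smul_mul_assoc]
    congr 2
    · simp [e, Equiv.piSplitAt]
    · congr 1; funext k; simp [e, Equiv.piSplitAt, k.2]
  have h2 := fun t => Fintype.linearIndependent_iff.1 hW _ h1 (e.symm (t, s))
  simp only [Equiv.apply_symm_apply] at h2
  rw [← hc s]
  exact Finset.sum_eq_zero fun t _ => by rw [h2 t, zero_smul]

end Groth.Agent.TensorFreeH28
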